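import Mathlib

/-!
# Elements of the fraction field integral at every height one prime
-/

set_option autoImplicit false
set_option maxHeartbeats 1000000
universe u

open Polynomial

noncomputable section

namespace Groth.Agent.NormHeightLib

variable {A K : Type u} [CommRing A] [Field K] [Algebra A K]

theorem isIntegral_of_mem_adjoin_inv {x : K} (hx : x ≠ 0) (h : x ∈ Algebra.adjoin A ({x⁻¹} : Set K)) :
    IsIntegral A x := by
  rw [Algebra.adjoin_singleton_eq_range_aeval] at h
  obtain ⟨p, hp⟩ := h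
  haveI : Invertible x := invertibleOfNonzero hx
  refine ⟨X ^ (p.natDegree + 1) - p.reverse, monic_X_pow_sub ?_, ?_⟩
  · exact degree_le_natDegree.trans_lt (Nat.cast_lt.2 (Nat.lt_succ_of_le (reverse_natDegree_le p)))
  · haveI : Invertible x⁻¹ := invertibleOfNonzero (inv_ne_zero hx)
    have h1 := eval₂_reverse_mul_pow (algebraMap A K) x⁻¹ p
    rw [invOf_eq_inv, inv_inv] at h1
    have h2 : eval₂ (algebraMap A K) x⁻¹ p = x := hp
    rw [h2, inv_pow] at h1
    rw [eval₂_sub, eval₂_X_pow, pow_succ, sub_eq_zero]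
    have hne : x ^ p.natDegree ≠ 0 := pow_ne_zero _ hx
    calc x ^ p.natDegree * x = x ^ p.natDegree * (eval₂ (algebraMap A K) x p.reverse * (x ^ p.natDegree)⁻¹) := by rw [h1]
      _ = _ := by field_simp

/-- The alternative at an algebraic element: a unit among the integral elements with integral product, or all coefficients vanish. -/
theorem exists_or_coeff_mem (y : K) (S : Ideal (integralClosure A K))
    (hy : ∀ u w : integralClosure A K, (w : K) = u * y → w ∈ S) :
    ∀ (n : ℕ) (G : (integralClosure A K)[X]), G.natDegree ≤ n → aeval y G = 0 →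
      (∃ u : integralClosure A K, u ∉ S ∧ IsIntegral A ((u : K) * y)) ∨ ∀ k, G.coeff k ∈ S
  | 0, G, hG, h0 => by
    refine Or.inr fun k => ?_
    rw [eq_C_of_natDegree_le_zero hG, aeval_C] at h0
    have hc : G.coeff 0 = 0 := Subtype.ext h0
    rcases k with _ | k
    · rw [hc]; exact zero_mem S
    · rw [coeff_eq_zero_of_natDegree_lt (by omega)]; exact zero_mem S
  | n + 1, G, hG, h0 => by
    rcases lt_or_eq_of_le hG with hlt | heq
    · exact exists_or_coeff_mem y S hy n G (by omega) h0
    have hlead : IsIntegral A ((G.leadingCoeff : K) * y) := by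
      have h1 := isIntegral_leadingCoeff_smul G y h0
      rw [Algebra.smul_def] at h1
      exact isIntegral_trans (R := A) (A := integralClosure A K) _ h1
    by_cases hS : G.leadingCoeff ∈ S
    swap
    · exact Or.inl ⟨_, hS, hlead⟩
    let w : integralClosure A K := ⟨(G.leadingCoeff : K) * y, hlead⟩
    have hw : w ∈ S := hy _ w rfl
    let G' := G.eraseLead + C w * X ^ n
    have hG' : G'.natDegree ≤ n := by
      refine natDegree_add_le_of_degree_le ?_ (natDegree_C_mul_X_pow_le w n)
      exact (eraseLead_natDegree_le G).trans (by omega)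
    have h0' : aeval y G' = 0 := by
      have e := congrArg (aeval y) (eraseLead_add_C_mul_X_pow G)
      rw [h0, map_add, map_mul, aeval_C, aeval_X_pow, heq] at e
      rw [map_add, map_mul, aeval_C, aeval_X_pow, ← e]
      show _ + (G.leadingCoeff : K) * y * y ^ n = _ + (G.leadingCoeff : K) * y ^ (n + 1)
      ring
    rcases exists_or_coeff_mem y S hy n G' hG' h0' with h | h
    · exact Or.inl h
    refine Or.inr fun k => ?_
    have hk : G.coeff k = G'.coeff k + (if k = n + 1 then G.leadingCoeff else 0) - (if k = n then w else 0) := by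
      conv_lhs => rw [← eraseLead_add_C_mul_X_pow G]
      simp only [G', coeff_add, coeff_C_mul, coeff_X_pow, heq, mul_ite, mul_one, mul_zero]
      ring
    rw [hk]
    refine sub_mem (add_mem (h k) ?_) ?_ <;> split_ifs <;> simp [hS, hw]

theorem eq_bot_of_lt {D : Type u} [CommRing D] [IsDomain D] {Q P : Ideal D} [Q.IsPrime] [P.IsPrime]
    (hQ : Q.height ≤ 1) (h : P < Q) : P = ⊥ := by
  have h1 := Ideal.height_le_iff.1 (by exact_mod_cast hQ : Q.height ≤ (1 : ℕ)) P inferInstance h
  rw [Nat.cast_one, Order.lt_one_iff, Ideal.height_eq_zero_iff, IsDomain.minimalPrimes_eq_singleton_bot] at h1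
  exact h1

/-- A prime of a finite birational extension strictly between gives one below a contracted height one prime. -/
theorem contradiction_of_between (hinj : Function.Injective (algebraMap A K)) (y : K) (Q : Ideal (Algebra.adjoin A ({y} : Set K))) [Q.IsPrime]
    (hQ : Q.height ≤ 1) (C' : Subalgebra A K) [Algebra.IsIntegral A C'] [Nontrivial A] (q' q1 : Ideal C') [q'.IsPrime] [q1.IsPrime]
    (hq1 : q1 ≠ ⊥) (hlt : q1 < q')
    (hcomp : q'.comap (algebraMap A C') = Q.comap (algebraMap A (Algebra.adjoin A ({y} : Set K))))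
    (hfrac : ∃ u w : C', u ∉ q' ∧ (u : K) * y = w)
    (hle : ∀ (d : Algebra.adjoin A ({y} : Set K)) (s r : C'), s ∉ q' → r ∈ q' → (s : K) * d = r → d ∈ Q) : False := by
  let D := Algebra.adjoin A ({y} : Set K)
  have hall : ∀ d ∈ D, ∃ s r : C', s ∉ q' ∧ (s : K) * d = r := fun d hd => by
    induction hd using Algebra.adjoin_induction with
    | mem x hx =>
      obtain ⟨u, w, hu, huw⟩ := hfrac
      rw [Set.mem_singleton_iff.1 hx]
      exact ⟨u, w, hu, huw⟩
    | algebraMap r => exact ⟨1, algebraMap A C' r, fun h => Ideal.IsPrime.ne_top' ((Ideal.eq_top_iff_one q').2 h),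
        by rw [OneMemClass.coe_one, one_mul]; rfl⟩
    | add a b _ _ ha hb =>
      obtain ⟨s, r, hs, h⟩ := ha
      obtain ⟨s', r', hs', h'⟩ := hb
      refine ⟨s * s', s' * r + s * r', fun hm => (Ideal.IsPrime.mem_or_mem ‹q'.IsPrime› hm).elim hs hs', ?_⟩
      simp only [MulMemClass.coe_mul, AddMemClass.coe_add, ← h, ← h']
      ring
    | mul a b _ _ ha hb =>
      obtain ⟨s, r, hs, h⟩ := ha
      obtain ⟨s', r', hs', h'⟩ := hb
      refine ⟨s * s', r * r', fun hm => (Ideal.IsPrime.mem_or_mem ‹q'.IsPrime› hm).elim hs hs', ?_⟩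
      simp only [MulMemClass.coe_mul, ← h, ← h']
      ring
  let Q1 : Ideal D :=
    { carrier := {d | ∃ s r : C', s ∉ q' ∧ r ∈ q1 ∧ (s : K) * d = r}
      zero_mem' := ⟨1, 0, fun h => Ideal.IsPrime.ne_top' ((Ideal.eq_top_iff_one q').2 h), zero_mem _, by simp⟩
      add_mem' := by
        rintro a b ⟨s, r, hs, hr, h⟩ ⟨s', r', hs', hr', h'⟩
        refine ⟨s * s', s' * r + s * r', fun hm => (Ideal.IsPrime.mem_or_mem ‹q'.IsPrime› hm).elim hs hs',
          add_mem (Ideal.mul_mem_left _ _ hr) (Ideal.mul_mem_left _ _ hr'), ?_⟩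
        simp only [MulMemClass.coe_mul, AddMemClass.coe_add, ← h, ← h']
        ring
      smul_mem' := by
        rintro c b ⟨s, r, hs, hr, h⟩
        obtain ⟨s', r', hs', h'⟩ := hall c c.2
        refine ⟨s * s', r' * r, fun hm => (Ideal.IsPrime.mem_or_mem ‹q'.IsPrime› hm).elim hs hs',
          Ideal.mul_mem_left _ _ hr, ?_⟩
        simp only [MulMemClass.coe_mul, smul_eq_mul, ← h, ← h']
        ring }
  have hQ1 : Q1.IsPrime := by
    refine ⟨fun htop => ?_, ?_⟩
    · obtain ⟨s, r, hs, hr, h⟩ := (Ideal.eq_top_iff_one Q1).1 htop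
      rw [OneMemClass.coe_one, mul_one] at h
      exact hs (Subtype.ext h ▸ hlt.le hr)
    · rintro a b ⟨s, r, hs, hr, h⟩
      obtain ⟨s1, r1, hs1, h1⟩ := hall a a.2
      obtain ⟨s2, r2, hs2, h2⟩ := hall b b.2
      have he : r1 * r2 * s = s1 * s2 * r := Subtype.ext (by
        simp only [MulMemClass.coe_mul, ← h, ← h1, ← h2]
        ring)
      have hm : r1 * r2 * s ∈ q1 := he ▸ Ideal.mul_mem_left _ _ hr
      rcases Ideal.IsPrime.mem_or_mem ‹q1.IsPrime› hm with h3 | h3
      · rcases Ideal.IsPrime.mem_or_mem ‹q1.IsPrime› h3 with h4 | h4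
        · exact Or.inl ⟨s1, r1, hs1, h4, h1⟩
        · exact Or.inr ⟨s2, r2, hs2, h4, h2⟩
      · exact absurd (hlt.le h3) hs
  obtain ⟨c, hcq1, hc0⟩ := Submodule.exists_mem_ne_zero_of_ne_bot hq1
  have hne : q1.comap (algebraMap A C') ≠ ⊥ :=
    Ideal.comap_ne_bot_of_integral_mem hc0 hcq1 (Algebra.IsIntegral.isIntegral c)
  have hlt' := Ideal.IsIntegral.comap_lt_comap (R := A) hlt
  obtain ⟨a, haq', haq1⟩ := SetLike.exists_of_lt hlt'
  have h1ne : Q1 < Q := by
    refine lt_of_le_of_ne (fun d hd => ?_) fun he => ?_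
    · obtain ⟨s, r, hs, hr, h⟩ := hd
      exact hle d s r hs (hlt.le hr) h
    · have hmem : algebraMap A D a ∈ Q1 := by rw [he]; exact hcomp.le haq'
      obtain ⟨s, r, hs, hr, h⟩ := hmem
      have hr' : s * algebraMap A C' a ∈ q1 := by
        have : s * algebraMap A C' a = r := Subtype.ext (by rw [MulMemClass.coe_mul]; exact h)
        rw [this]; exact hr
      rcases Ideal.IsPrime.mem_or_mem ‹q1.IsPrime› hr' with h3 | h3
      · exact hs (hlt.le h3)
      · exact haq1 h3
  haveI := hQ1
  have hbot := eq_bot_of_lt hQ h1ne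
  obtain ⟨a', ha', ha'0⟩ := Submodule.exists_mem_ne_zero_of_ne_bot hne
  have hmem : algebraMap A D a' ∈ Q1 :=
    ⟨1, algebraMap A C' a', fun h => Ideal.IsPrime.ne_top' ((Ideal.eq_top_iff_one q').2 h), ha',
      by rw [OneMemClass.coe_one, one_mul]; rfl⟩
  rw [hbot, Ideal.mem_bot] at hmem
  have hz : algebraMap A K a' = 0 := congrArg Subtype.val hmem
  exact ha'0 (hinj (hz.trans (map_zero _).symm))

end Groth.Agent.NormHeightLib
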